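import Groth.Agent.Lib.NormAmple.Integral
import Groth.Agent.Lib.QsChow21.Irred
import Groth.Agent.Lib.NormalExt.Basic
import Groth.Agent.Lib.AntiAffine.Image
import Groth.Agent.Lib.Euler.Rank
import Groth.Agent.Lib.UnrMono.SmoothNormal
import Groth.Agent.Lib.TFCurv11.NodePush

/-!
# Global functions along a finite surjective morphism onto a normal scheme
-/

set_option autoImplicit false
set_option linter.all false

universe u

open AlgebraicGeometry CategoryTheory CategoryTheory.Limits TopologicalSpace Opposite Polynomial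
open MonoidalCategory CartesianMonoidalCategory MonObj

noncomputable section

namespace GrothLib.AntiAffIsog24

variable {X Y : Scheme.{u}} (f : X ⟶ Y) [IsIntegral X] [IsIntegral Y] [Surjective f] [IsFinite f]

/-- A global function satisfies a monic equation over the global functions of the base. -/
theorem isIntegralElem_appTop (hY : Pi1.IsNormalScheme Y) (s : Γ(X, ⊤)) :
    f.appTop.hom.IsIntegralElem s := by
  letI := (NormAmple.fmap f).hom.toAlgebra
  let sh : X.functionField := X.presheaf.germ ⊤ (genericPoint X) trivial s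
  have key : ∀ y : Y, IsIntegral Y.functionField sh ∧ ∀ n : ℕ, ∃ a : Y.presheaf.stalk y,
      algebraMap (Y.presheaf.stalk y) Y.functionField a = (minpoly Y.functionField sh).coeff n := by
    intro y
    obtain ⟨_, ⟨V, hV, rfl⟩, hyV, -⟩ :=
      Y.isBasis_affineOpens.exists_subset_of_mem_open (Set.mem_univ y) isOpen_univ
    have hη : genericPoint Y ∈ V := NormAmple.genericPoint_mem hyV
    haveI : Nonempty V := ⟨⟨_, hη⟩⟩
    haveI : Nonempty (f ⁻¹ᵁ V : X.Opens) := ⟨⟨_, NormAmple.genericPoint_mem_preimage f hη⟩⟩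
    haveI := functionField_isFractionRing_of_isAffineOpen Y V hV
    letI iAB : Algebra Γ(Y, V) Γ(X, f ⁻¹ᵁ V) := (f.app V).hom.toAlgebra
    haveI : Module.Finite Γ(Y, V) Γ(X, f ⁻¹ᵁ V) := f.finite_app V hV
    letI iAL : Algebra Γ(Y, V) X.functionField :=
      ((algebraMap Γ(X, f ⁻¹ᵁ V) X.functionField).comp (f.app V).hom).toAlgebra
    haveI : IsScalarTower Γ(Y, V) Γ(X, f ⁻¹ᵁ V) X.functionField := IsScalarTower.of_algebraMap_eq fun _ => rfl
    haveI : IsScalarTower Γ(Y, V) Y.functionField X.functionField :=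
      IsScalarTower.of_algebraMap_eq fun a =>
        (NormAmple.fmap_germ f hη (NormAmple.genericPoint_mem_preimage f hη) a).symm
    haveI : IsIntegrallyClosed Γ(Y, V) := NormalExt.isIntegrallyClosed_Γ (fun y => (hY y).2) V hV
    let b : Γ(X, f ⁻¹ᵁ V) := X.presheaf.map (homOfLE le_top).op s
    have hb : algebraMap Γ(X, f ⁻¹ᵁ V) X.functionField b = sh :=
      X.presheaf.germ_res_apply _ _ (NormAmple.genericPoint_mem_preimage f hη) s
    have hint : IsIntegral Γ(Y, V) sh := hb ▸ (Algebra.IsIntegral.isIntegral (R := Γ(Y, V)) b).algebraMap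
    refine ⟨hint.tower_top, fun n => ⟨Y.presheaf.germ V y hyV ((minpoly Γ(Y, V) sh).coeff n), ?_⟩⟩
    rw [minpoly.isIntegrallyClosed_eq_field_fractions' Y.functionField hint, Polynomial.coeff_map]
    exact Y.presheaf.germ_stalkSpecializes_apply hyV ((genericPoint_spec Y).specializes trivial) _
  have hmem : minpoly Y.functionField sh ∈
      Polynomial.lifts (Y.presheaf.germ ⊤ (genericPoint Y) trivial).hom :=
    (Polynomial.lifts_iff_coeff_lifts _).2 fun n =>
      QsChow21.exists_global _ fun y => (key y).2 n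
  obtain ⟨P, hP, -, hmon⟩ := Polynomial.lifts_and_degree_eq_and_monic hmem (minpoly.monic (key (genericPoint Y)).1)
  refine ⟨P, hmon, germ_injective_of_isIntegral X (genericPoint X) (U := ⊤) trivial ?_⟩
  rw [map_zero, Polynomial.hom_eval₂]
  have hc : (X.presheaf.germ ⊤ (genericPoint X) trivial).hom.comp f.appTop.hom =
      (NormAmple.fmap f).hom.comp (Y.presheaf.germ ⊤ (genericPoint Y) trivial).hom :=
    RingHom.ext fun a => (NormAmple.fmap_germ f (W := ⊤) trivial trivial a).symm
  rw [hc, ← Polynomial.eval₂_map, hP]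
  exact minpoly.aeval Y.functionField sh

omit [IsIntegral X] [IsIntegral Y] [Surjective f] [IsFinite f] in
/-- Scalar functions over the field. -/
theorem surjective_of_integral {k : Type u} [Field k] {A : Type u} [CommRing A] [IsDomain A]
    (φ : k →+* A) (e : A →+* k) (he : ∀ x, e (φ x) = x) (h : ∀ a : A, φ.IsIntegralElem a) :
    Function.Surjective φ := by
  letI := φ.toAlgebra
  intro a
  refine ⟨e a, ?_⟩
  by_contra hne
  have ht : a - φ (e a) ≠ 0 := sub_ne_zero.2 (fun hh => hne hh.symm)
  have hint : IsIntegral k (a - φ (e a)) := h _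
  have h0 := minpoly.coeff_zero_ne_zero hint ht
  apply h0
  have h1 := congrArg e (minpoly.aeval k (a - φ (e a)))
  rw [map_zero, Polynomial.aeval_def, Polynomial.hom_eval₂,
    show e.comp (algebraMap k A) = RingHom.id k from RingHom.ext he, map_sub, he, sub_self,
    Polynomial.eval₂_id, ← Polynomial.coeff_zero_eq_eval_zero] at h1
  exact h1

omit [IsIntegral X] [IsIntegral Y] [Surjective f] [IsFinite f] in
theorem antiAffine_iff (k : Type u) [Field k]
    (G H : Over (Spec (CommRingCat.of k))) [GrpObj G] [Smooth G.hom] [QuasiCompact G.hom]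
    [ConnectedSpace ↥G.left] [GrpObj H] [Smooth H.hom] [QuasiCompact H.hom] [ConnectedSpace ↥H.left]
    (f : G ⟶ H) [IsMonHom f] [Surjective f.left] [IsFinite f.left] :
    AntiAffine.IsAntiAffine G ↔ AntiAffine.IsAntiAffine H := by
  haveI : IsIntegral G.left := Euler.isIntegral_of_smooth_connected k G.hom
  haveI : IsIntegral H.left := Euler.isIntegral_of_smooth_connected k H.hom
  constructor
  · intro hG
    haveI : IsSchemeTheoreticallyDominant f.left := IsSchemeTheoreticallyDominant.of_isDominant f.left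
    exact AntiAffine.IsAntiAffine.of_dominant hG f
  · intro hH
    let φG := ((Scheme.ΓSpecIso (CommRingCat.of k)).inv ≫ G.hom.appTop).hom
    let φH := ((Scheme.ΓSpecIso (CommRingCat.of k)).inv ≫ H.hom.appTop).hom
    have hcomp : φG = f.left.appTop.hom.comp φH := by
      show _ = (((Scheme.ΓSpecIso (CommRingCat.of k)).inv ≫ H.hom.appTop) ≫ f.left.appTop).hom
      rw [Category.assoc, ← Scheme.Hom.comp_appTop, Over.w f]
    let u : 𝟙_ (Over (Spec (CommRingCat.of k))) ⟶ G := η[G]
    let e : Γ(G.left, ⊤) ⟶ CommRingCat.of k :=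
      (show Spec (CommRingCat.of k) ⟶ G.left from u.left).appTop ≫ (Scheme.ΓSpecIso (CommRingCat.of k)).hom
    have hu : (show Spec (CommRingCat.of k) ⟶ G.left from u.left) ≫ G.hom = 𝟙 _ := Over.w u
    have he : ((Scheme.ΓSpecIso (CommRingCat.of k)).inv ≫ G.hom.appTop) ≫ e = 𝟙 _ := by
      simp only [e, Category.assoc]
      rw [← Category.assoc G.hom.appTop, ← Scheme.Hom.comp_appTop, hu, Scheme.Hom.id_appTop,
        Category.id_comp, Iso.inv_hom_id]
    refine ⟨RingHom.injective _, surjective_of_integral φG e.hom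
      (fun x => ConcreteCategory.congr_hom he x) fun a => ?_⟩
    obtain ⟨P, hPm, hP⟩ := isIntegralElem_appTop f.left (NodePush11.isNormalScheme_of_smooth H.hom) a
    obtain ⟨Q, hQ, -, hQm⟩ := Polynomial.lifts_and_degree_eq_and_monic
      ((Polynomial.lifts_iff_coeff_lifts (f := φH) P).2 fun n => hH.2 (P.coeff n)) hPm
    refine ⟨Q, hQm, ?_⟩
    rw [hcomp, ← Polynomial.eval₂_map, hQ]
    exact hP

end GrothLib.AntiAffIsog24
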